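import Groth.Agent.SpreadOutFP.Iso
import Groth.Agent.GenFinite.Basic
import Groth.Agent.S7415

/-!
Birational morphisms (bijection on generic points, isomorphisms of their local rings) are
isomorphisms between dense opens.
-/

universe u

open AlgebraicGeometry CategoryTheory CategoryTheory.Limits TopologicalSpace Topology

set_option backward.isDefEq.respectTransparency.types false

namespace Groth.Agent.BirLib

variable {X Y : Scheme.{u}} (f : X ⟶ Y)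

theorem restrict_resLE_iff (P : MorphismProperty Scheme.{u}) [P.RespectsIso] {V : Y.Opens} {U : X.Opens}
    (e : U ≤ f ⁻¹ᵁ V) (W : Y.Opens) (hW : W ≤ V) :
    P ((f.resLE V U e) ∣_ (V.ι ⁻¹ᵁ W)) ↔ P (f.resLE W (U ⊓ f ⁻¹ᵁ W) inf_le_right) := by
  set g := f.resLE V U e with hg
  have hgx : ∀ x, (g x).1 = f x.1 := fun x =>
    congrArg (fun ψ : U.toScheme ⟶ Y => ψ x) (f.resLE_comp_ι e)
  have eV : V.ι ''ᵁ (V.ι ⁻¹ᵁ W) = W := by
    rw [Scheme.Hom.image_preimage_eq_opensRange_inf, Scheme.Opens.opensRange_ι, inf_eq_right.mpr hW]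
  have eU : U.ι ''ᵁ (g ⁻¹ᵁ (V.ι ⁻¹ᵁ W)) = U ⊓ f ⁻¹ᵁ W := by
    ext z
    constructor
    · rintro ⟨p, hp, rfl⟩
      refine ⟨p.2, ?_⟩
      show f p.1 ∈ W
      rw [← hgx p]; exact hp
    · rintro ⟨hzU, hzW⟩
      refine ⟨⟨z, hzU⟩, ?_, rfl⟩
      show (g ⟨z, hzU⟩).1 ∈ W
      rw [hgx]; exact hzW
  have e1 : U.ι ''ᵁ (g ⁻¹ᵁ (V.ι ⁻¹ᵁ W)) ≤ f ⁻¹ᵁ (V.ι ''ᵁ (V.ι ⁻¹ᵁ W)) := by
    rw [eU, eV]; exact inf_le_right
  have e2 : (U.ι.isoImage (g ⁻¹ᵁ (V.ι ⁻¹ᵁ W))).hom ≫ f.resLE _ _ e1 =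
      (g ∣_ (V.ι ⁻¹ᵁ W)) ≫ (V.ι.isoImage (V.ι ⁻¹ᵁ W)).hom := by
    rw [← cancel_mono (V.ι ''ᵁ (V.ι ⁻¹ᵁ W)).ι]
    simp [g]
  rw [← MorphismProperty.cancel_right_of_respectsIso P _ (V.ι.isoImage (V.ι ⁻¹ᵁ W)).hom, ← e2,
    MorphismProperty.cancel_left_of_respectsIso P]
  exact Scheme.Hom.resLE_congr f e1 eV eU P

theorem isIso_resLE_of_le {V : Y.Opens} {U : X.Opens} (e : U ≤ f ⁻¹ᵁ V) (h : IsIso (f.resLE V U e))
    {W : Y.Opens} (hW : W ≤ V) : IsIso (f.resLE W (U ⊓ f ⁻¹ᵁ W) inf_le_right) := by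
  haveI := h
  exact (restrict_resLE_iff f (MorphismProperty.isomorphisms Scheme.{u}) e W hW).mp
    (inferInstanceAs (IsIso ((f.resLE V U e) ∣_ (V.ι ⁻¹ᵁ W))))

theorem isIso_resLE_iSup {ι : Type*} (U : ι → X.Opens) (V : ι → Y.Opens)
    (e : ∀ i, U i ≤ f ⁻¹ᵁ V i) (h : ∀ i, IsIso (f.resLE (V i) (U i) (e i)))
    (hd : Pairwise fun i j => Disjoint (V i) (V j)) :
    IsIso (f.resLE (⨆ i, V i) (⨆ i, U i)
      (iSup_le fun i => (e i).trans (f.preimage_mono (le_iSup V i)))) := by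
  show MorphismProperty.isomorphisms Scheme.{u} _
  rw [IsZariskiLocalAtTarget.iff_of_iSup_eq_top (P := MorphismProperty.isomorphisms Scheme.{u})
    (fun i => (⨆ i, V i).ι ⁻¹ᵁ V i)]
  · intro i
    rw [restrict_resLE_iff f (MorphismProperty.isomorphisms Scheme.{u}) _ (V i) (le_iSup V i)]
    have hU : (⨆ j, U j) ⊓ f ⁻¹ᵁ V i = U i := by
      refine le_antisymm ?_ (le_inf (le_iSup U i) (e i))
      rintro z ⟨hz, hzi⟩
      obtain ⟨j, hj⟩ := Opens.mem_iSup.mp hz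
      by_cases hji : j = i
      · exact hji ▸ hj
      · have h2 : f z ∈ V j ⊓ V i := ⟨e j hj, hzi⟩
        rw [disjoint_iff.mp (hd hji)] at h2
        exact h2.elim
    exact (Scheme.Hom.resLE_congr f _ rfl hU (MorphismProperty.isomorphisms Scheme.{u})).mpr (h i)
  · refine top_le_iff.mp fun z _ => ?_
    obtain ⟨i, hi⟩ := Opens.mem_iSup.mp z.2
    exact Opens.mem_iSup.mpr ⟨i, hi⟩

/-- A birational morphism of finite type to a reduced target, or of finite presentation, is an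
isomorphism between dense opens. -/
theorem exists_dense_isIso_resLE (hXfin : (irreducibleComponents X).Finite)
    (hYfin : (irreducibleComponents Y).Finite)
    (hbij : Set.BijOn (fun x : X => f x) {x : X | closure {x} ∈ irreducibleComponents X}
      {y : Y | closure {y} ∈ irreducibleComponents Y})
    (hiso : ∀ x : X, closure {x} ∈ irreducibleComponents X → IsIso (f.stalkMap x))
    (hf : (LocallyOfFiniteType f ∧ AlgebraicGeometry.IsReduced Y) ∨ LocallyOfFinitePresentation f) :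
    ∃ (U : X.Opens) (V : Y.Opens) (hUV : U ≤ f ⁻¹ᵁ V), Dense (U : Set X) ∧ Dense (V : Set Y) ∧
      IsIso (f.resLE V U hUV) ∧ (∀ x, closure {x} ∈ irreducibleComponents X → x ∈ U) := by
  haveI : LocallyOfFiniteType f := by
    rcases hf with h | h
    · exact h.1
    · infer_instance
  have hloc : ∀ x : X, closure {x} ∈ irreducibleComponents X →
      ∃ (U : X.Opens) (V : Y.Opens) (e : U ≤ f ⁻¹ᵁ V), x ∈ U ∧ IsIso (f.resLE V U e) := by
    intro x hx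
    haveI := hiso x hx
    have hgψ : (Spec.map (inv (f.stalkMap x)) ≫ X.fromSpecStalk x) ≫ f =
        Y.fromSpecStalk (f x) ≫ 𝟙 Y := by
      rw [Category.assoc, ← Scheme.SpecMap_stalkMap_fromSpecStalk, ← Spec.map_comp_assoc,
        IsIso.hom_inv_id, Spec.map_id, Category.id_comp, Category.comp_id]
    obtain ⟨V, hy, g, hg, hg'⟩ : ∃ (V : Y.Opens) (hy : f x ∈ V) (g : V.toScheme ⟶ X),
        Spec.map (inv (f.stalkMap x)) ≫ X.fromSpecStalk x = V.fromSpecStalkOfMem _ hy ≫ g ∧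
          g ≫ f = V.ι ≫ 𝟙 Y := by
      rcases hf with h | h
      · haveI := h.2
        haveI := Groth.Agent.S7415.result Y hYfin (f x)
        exact spread_out_of_isGermInjective' (𝟙 Y) f _ hgψ
      · exact Groth.Agent.SpreadOutFP.spread_out' (𝟙 Y) f _ hgψ
    obtain ⟨U', V', hxU', hyV', hU, -, i, -, hi⟩ := Groth.Agent.SpreadOutFP.exists_iso_of_spread f (𝟙 Y)
      (asIso (f.stalkMap x)) (U := ⊤) (Opens.mem_top x) ((⊤ : X.Opens).ι ≫ f) (by simp)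
      (by rw [Scheme.Opens.fromSpecStalkOfMem_ι_assoc]; exact (Scheme.SpecMap_stalkMap_fromSpecStalk f).symm)
      hy g hg' hg.symm
    have hcomp : i.hom ≫ V'.ι = U'.ι ≫ f := by simpa using hi
    have e : U' ≤ f ⁻¹ᵁ V' := fun z hz => by
      show f z ∈ V'
      have h1 := congrArg (fun ψ : U'.toScheme ⟶ Y => ψ ⟨z, hz⟩) hcomp
      rw [show f z = (U'.ι ≫ f) ⟨z, hz⟩ from rfl, ← h1]
      exact (i.hom ⟨z, hz⟩).2
    refine ⟨U', V', e, hxU', ?_⟩
    have : f.resLE V' U' e = i.hom := by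
      rw [← cancel_mono V'.ι, Scheme.Hom.resLE_comp_ι, hcomp]
    rw [this]; infer_instance
  let G := {x : X // closure {x} ∈ irreducibleComponents X}
  obtain ⟨W, hW, hWd⟩ := Groth.Agent.GenFinite.exists_disjoint_affine_nhds_of_finite hYfin
    (fun g : G => f g.1) (fun g => hbij.1 g.2)
    (fun a b h => Subtype.ext (hbij.2.1 a.2 b.2 h))
  choose U₀ V₀ e₀ hmem hiso₀ using hloc
  let V : G → Y.Opens := fun g => V₀ g.1 g.2 ⊓ W g
  let U : G → X.Opens := fun g => U₀ g.1 g.2 ⊓ f ⁻¹ᵁ V g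
  have hU : ∀ g, g.1 ∈ U g := fun g => ⟨hmem g.1 g.2, e₀ g.1 g.2 (hmem g.1 g.2), (hW g).2⟩
  refine ⟨⨆ g, U g, ⨆ g, V g, iSup_le fun i => inf_le_right.trans (f.preimage_mono (le_iSup V i)),
    ?_, ?_, ?_, fun x hx => Opens.mem_iSup.mpr ⟨⟨x, hx⟩, hU _⟩⟩
  · rw [dense_iff_inter_open]
    rintro O hO ⟨z, hz⟩
    obtain ⟨η, hη, hηz⟩ := Groth.Agent.FlatMor.GenericPts.exists_generic_specializes z
    exact ⟨η, hηz.mem_open hO hz, Opens.mem_iSup.mpr ⟨⟨η, hη⟩, hU _⟩⟩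
  · rw [dense_iff_inter_open]
    rintro O hO ⟨z, hz⟩
    obtain ⟨η, hη, hηz⟩ := Groth.Agent.FlatMor.GenericPts.exists_generic_specializes z
    obtain ⟨x, hx, rfl⟩ := hbij.2.2 hη
    exact ⟨f x, hηz.mem_open hO hz, Opens.mem_iSup.mpr ⟨⟨x, hx⟩, (hU ⟨x, hx⟩).2⟩⟩
  · exact isIso_resLE_iSup f U V (fun g => inf_le_right)
      (fun g => isIso_resLE_of_le f (e₀ g.1 g.2) (hiso₀ g.1 g.2) inf_le_left)
      (fun i j hij => (hWd hij).mono inf_le_right inf_le_right)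

end Groth.Agent.BirLib
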